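import Groth.Agent.H7Flat.ModMax
import Groth.Agent.H7Flat.HenselianFlatSpec
import Mathlib.RingTheory.Regular.RegularSequence

/-!
# Maps injective on the closed fibre, slicing, and descending induction along complexes of free modules
-/

set_option autoImplicit false
set_option linter.style.haveILetI false

universe u

open IsLocalRing RingTheory.Sequence
open scoped Pointwise TensorProduct

namespace Groth.Agent.H02CA.KoszLift

variable {R A : Type u} [CommRing R] [CommRing A] [IsLocalRing R] [IsLocalRing A] [Algebra R A]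

/-- The ideal of the closed fibre. -/
abbrev mA (R A : Type u) [CommRing R] [CommRing A] [IsLocalRing R] [Algebra R A] : Ideal A :=
  (maximalIdeal R).map (algebraMap R A)

theorem mem_smul_top_iff (M : Type u) [AddCommGroup M] [Module A M] [Module R M] [IsScalarTower R A M] (x : M) :
    x ∈ mA R A • (⊤ : Submodule A M) ↔ x ∈ maximalIdeal R • (⊤ : Submodule R M) := by
  have h := Ideal.smul_restrictScalars (M := M) (S := A) (maximalIdeal R) (⊤ : Submodule A M)
  rw [Submodule.restrictScalars_top] at h
  rw [← h, Submodule.restrictScalars_mem]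

variable [IsLocalHom (algebraMap R A)] [Algebra.EssFiniteType R A]

/-- A map into a flat module which is injective on the closed fibre is injective with flat cokernel. -/
theorem injective_and_flat {N M : Type u} [AddCommGroup N] [Module A N] [Module R N] [IsScalarTower R A N]
    [Module.Finite A N] [AddCommGroup M] [Module A M] [Module R M] [IsScalarTower R A M] [Module.Flat R M]
    (u : N →ₗ[A] M) (hu : ∀ x, u x ∈ mA R A • (⊤ : Submodule A M) → x ∈ mA R A • (⊤ : Submodule A N)) :
    Function.Injective u ∧ Module.Flat R (M ⧸ LinearMap.range u) := by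
  obtain ⟨hinj, -, -⟩ := H7Flat.ModMax.main (A := R) (B := A) (u.restrictScalars R)
    fun x hx => (mem_smul_top_iff N x).1 (hu x ((mem_smul_top_iff M _).2 hx))
  have hl : ∀ (Q : Type u) [AddCommGroup Q] [Module R Q],
      Function.Injective ((u.restrictScalars R).lTensor Q) := fun Q _ _ => by
    rw [← LinearMap.comm_comp_rTensor_comp_comm_eq]
    exact ((TensorProduct.comm R M Q).injective.comp (hinj Q)).comp (TensorProduct.comm R Q N).injective
  refine ⟨fun a b hab => ?_, ?_⟩
  · refine (TensorProduct.rid R N).symm.injective (hinj R ?_)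
    rw [TensorProduct.rid_symm_apply, TensorProduct.rid_symm_apply, LinearMap.rTensor_tmul, LinearMap.rTensor_tmul]
    exact congrArg (· ⊗ₜ[R] (1 : R)) hab
  · haveI := H7Flat.HenselianFlatSpec.flat_coker_of_univInj (u.restrictScalars R) hl
    exact Module.Flat.of_linearEquiv (Submodule.quotEquivOfEq _ ((LinearMap.range u).restrictScalars R)
      (LinearMap.range_restrictScalars u) ≪≫ₗ Submodule.Quotient.restrictScalarsEquiv R (LinearMap.range u)).symm

/-- Slicing: a sequence regular on the closed fibre of a flat module is regular with flat quotient. -/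
theorem slice (l : List A) : ∀ (M : Type u) [AddCommGroup M] [Module A M] [Module R M] [IsScalarTower R A M]
    [Module.Finite A M] [Module.Flat R M], IsWeaklyRegular (M ⧸ mA R A • (⊤ : Submodule A M)) l →
    IsWeaklyRegular M l ∧ Module.Flat R (M ⧸ Ideal.ofList l • (⊤ : Submodule A M)) := by
  induction l with
  | nil =>
    intro M _ _ _ _ _ _ _
    refine ⟨IsWeaklyRegular.nil A M, ?_⟩
    exact Module.Flat.of_linearEquiv
      ((Submodule.quotEquivOfEqBot (Ideal.ofList ([] : List A) • (⊤ : Submodule A M))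
        (by rw [Ideal.ofList_nil, Submodule.bot_smul])).restrictScalars R)
  | cons f l ih =>
    intro M _ _ _ _ _ _ h
    rw [isWeaklyRegular_cons_iff] at h
    obtain ⟨hf, hl⟩ := h
    let u : M →ₗ[A] M := f • LinearMap.id
    obtain ⟨hinj, hflat⟩ := injective_and_flat (R := R) u fun x hx => by
      have h0 : f • (Submodule.Quotient.mk x : M ⧸ mA R A • (⊤ : Submodule A M)) = f • 0 := by
        rw [smul_zero, ← Submodule.Quotient.mk_smul]
        exact (Submodule.Quotient.mk_eq_zero _).2 hx
      exact (Submodule.Quotient.mk_eq_zero _).1 (hf h0)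
    have hr : LinearMap.range u = f • (⊤ : Submodule A M) := by
      rw [← LinearMap.range_eq_map u |>.symm.trans (Eq.refl _)]
      ext y
      simp [u, Submodule.mem_smul_pointwise_iff_exists]
    haveI : Module.Flat R (QuotSMulTop f M) :=
      Module.Flat.of_linearEquiv ((Submodule.quotEquivOfEq _ _ hr).restrictScalars R).symm
    haveI : Module.Finite A (QuotSMulTop f M) := inferInstanceAs (Module.Finite A (M ⧸ f • (⊤ : Submodule A M)))
    let P := mA R A • (⊤ : Submodule A M)
    let Q := f • (⊤ : Submodule A M)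
    have e : QuotSMulTop f (M ⧸ P) ≃ₗ[A] (QuotSMulTop f M) ⧸ mA R A • (⊤ : Submodule A (QuotSMulTop f M)) :=
      (Submodule.quotEquivOfEq _ (Q.map P.mkQ) (by
          rw [Submodule.map_pointwise_smul, Submodule.map_top, Submodule.range_mkQ])) ≪≫ₗ
        Submodule.quotientQuotientEquivQuotientSup P Q ≪≫ₗ
        Submodule.quotEquivOfEq _ _ (sup_comm P Q) ≪≫ₗ
        (Submodule.quotientQuotientEquivQuotientSup Q P).symm ≪≫ₗ
        Submodule.quotEquivOfEq _ _ (by rw [Submodule.map_smul'', Submodule.map_top, Submodule.range_mkQ])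
    obtain ⟨hreg, hfl⟩ := ih (QuotSMulTop f M) ((e.isWeaklyRegular_congr l).1 hl)
    refine ⟨(isWeaklyRegular_cons_iff M f l).2 ⟨fun a b hab => hinj hab, hreg⟩, ?_⟩
    exact Module.Flat.of_linearEquiv
      ((Submodule.quotOfListConsSMulTopEquivQuotSMulTopInner M f l).restrictScalars R)

omit [Algebra.EssFiniteType R A] in
theorem mA_le : mA R A ≤ maximalIdeal A :=
  Ideal.map_le_iff_le_comap.2 fun r hr => map_nonunit (algebraMap R A) r hr

/-- Projection data for a map of a complex whose fibre is exact: the step of the descending induction. -/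
theorem desc_step {E₀ E₁ E₂ : Type u} [AddCommGroup E₀] [Module A E₀] [AddCommGroup E₁] [Module A E₁]
    [AddCommGroup E₂] [Module A E₂] [Module.Finite A E₁] [Module.Projective A E₁]
    (d₀ : E₀ →ₗ[A] E₁) (d₁ : E₁ →ₗ[A] E₂) (hd : ∀ x, d₁ (d₀ x) = 0)
    (s₁ : E₂ →ₗ[A] E₁) (hs₁ : ∀ x, d₁ (s₁ (d₁ x)) = d₁ x)
    (hex : ∀ x, d₁ x ∈ mA R A • (⊤ : Submodule A E₂) → ∃ w, x - d₀ w ∈ mA R A • (⊤ : Submodule A E₁)) :
    (∀ x, d₁ x = 0 → ∃ w, d₀ w = x) ∧ ∃ s₀ : E₁ →ₗ[A] E₀, ∀ w, d₀ (s₀ (d₀ w)) = d₀ w := by
  let Z := LinearMap.ker d₁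
  let r : E₁ →ₗ[A] Z := (LinearMap.id - s₁ ∘ₗ d₁).codRestrict Z fun x => by
    show d₁ (x - s₁ (d₁ x)) = 0
    rw [map_sub, hs₁, sub_self]
  have hr : ∀ z : Z, r z = z := fun z => Subtype.ext (by
    show (z : E₁) - s₁ (d₁ z) = z
    rw [show d₁ (z : E₁) = 0 from z.2, map_zero, sub_zero])
  haveI : Module.Finite A Z := Module.Finite.of_surjective r fun z => ⟨z, hr z⟩
  haveI : Module.Projective A Z := Module.Projective.of_split Z.subtype r (LinearMap.ext hr)
  let d : E₀ →ₗ[A] Z := d₀.codRestrict Z hd
  have hsurj : Function.Surjective d := by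
    rw [← LinearMap.range_eq_top]
    refine top_unique (Submodule.le_of_le_smul_of_le_jacobson_bot (Module.Finite.fg_top)
      (le_trans (mA_le (R := R)) (IsLocalRing.maximalIdeal_le_jacobson ⊥)) fun z _ => ?_)
    obtain ⟨w, hw⟩ := hex (z : E₁) (by rw [show d₁ (z : E₁) = 0 from z.2]; exact zero_mem _)
    refine Submodule.mem_sup.2 ⟨d w, ⟨w, rfl⟩, r ((z : E₁) - d₀ w), ?_, ?_⟩
    · have := Submodule.mem_map_of_mem (f := r) hw
      rw [Submodule.map_smul''] at this
      exact Submodule.smul_mono le_rfl le_top this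
    · rw [map_sub, hr z, show r (d₀ w) = d w from hr (d w), add_sub_cancel]
  obtain ⟨g, hg⟩ := Module.projective_lifting_property d LinearMap.id hsurj
  refine ⟨fun x hx => ?_, g ∘ₗ r, fun w => ?_⟩
  · obtain ⟨w, hw⟩ := hsurj ⟨x, hx⟩
    exact ⟨w, congrArg Subtype.val hw⟩
  · have h1 : d (g (r (d₀ w))) = r (d₀ w) := LinearMap.congr_fun hg _
    refine (congrArg Subtype.val h1).trans ?_
    exact congrArg Subtype.val (hr (d w))

end Groth.Agent.H02CA.KoszLift
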