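import Groth.Agent.H8Props.PseudoCoh.Koszul
import Groth.Agent.H29Slice.KoszulReg
import Groth.Prelude.Def_DRing2
import Groth.Prelude.Def_Wider
import Mathlib

/-!
# The Koszul complex of a regular sequence resolves the quotient (no Noetherian hypothesis)
-/

set_option autoImplicit false
set_option linter.style.haveILetI false

universe u

open CategoryTheory CategoryTheory.Limits

attribute [local instance] HasDerivedCategory.standard

namespace Groth.Agent.H02CA.KoszLift

/-- The Koszul complex of a regular sequence is the quotient. -/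
theorem koszul_iso {R : Type u} [CommRing R] (fs : List R) (hreg : RingTheory.Sequence.IsRegular R fs) :
    Nonempty (DRing.toD (Koszul.koszul R fs) ≅ Dual.inD R (R ⧸ Ideal.ofList fs)) := by
  have hk := H29Slice.isKoszulRegular_of_isWeaklyRegular hreg.toIsWeaklyRegular
  let E := Koszul.koszul R fs
  obtain ⟨ε, hε⟩ := H8Props.PseudoCoh.koszul_zero fs
  haveI := ModuleCat.subsingleton_of_isZero (H8Props.PseudoCoh.koszul_isZero fs 1 (Or.inr one_pos))
  let Sc := E.sc' (-1) 0 1
  let q : LinearMap.ker Sc.g.hom →ₗ[R] R ⧸ Ideal.ofList fs :=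
    (Submodule.mkQ (Ideal.ofList fs)) ∘ₗ ε.toLinearMap ∘ₗ (LinearMap.ker Sc.g.hom).subtype
  have hq : Function.Surjective q := fun y => by
    obtain ⟨a, rfl⟩ := Submodule.Quotient.mk_surjective _ y
    exact ⟨⟨ε.symm a, Subsingleton.elim (α := (Koszul.koszul R fs).X 1) _ _⟩,
      congrArg (Submodule.mkQ (Ideal.ofList fs)) (ε.apply_symm_apply a)⟩
  let e := (Submodule.quotEquivOfEq (LinearMap.range Sc.moduleCatToCycles) (LinearMap.ker q) (by
      ext z
      rw [LinearMap.mem_ker]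
      show z ∈ LinearMap.range Sc.moduleCatToCycles ↔ Submodule.Quotient.mk (ε z.1) = 0
      rw [Submodule.Quotient.mk_eq_zero, ← hε]
      exact ⟨fun ⟨w, hw⟩ => ⟨z.1, ⟨w, congrArg Subtype.val hw⟩, rfl⟩,
        fun ⟨v, ⟨w, hw⟩, hvz⟩ => ⟨w, Subtype.ext (hw.trans (ε.injective hvz))⟩⟩)).trans
    (q.quotKerEquivOfSurjective hq)
  let h0 : (DerivedCategory.homologyFunctor (ModuleCat.{u} R) 0).obj (DRing.toD E) ≅ ModuleCat.of R (R ⧸ Ideal.ofList fs) :=
    (DerivedCategory.homologyFunctorFactors (ModuleCat.{u} R) 0).app E ≪≫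
      E.homologyIsoSc' (-1) 0 1 (by simp) (by simp) ≪≫ Sc.moduleCatHomologyIso ≪≫ e.toModuleIso
  have hz : ∀ i, i ≠ 0 → E.ExactAt i := fun i hi =>
    (HomologicalComplex.exactAt_iff_isZero_homology _ _).mpr (hk i hi)
  haveI : (DRing.toD E).IsGE 0 := (DerivedCategory.isGE_Q_obj_iff _ _).mpr
    ((CochainComplex.isGE_iff _ _).mpr fun i hi => hz i (by omega))
  haveI : (DRing.toD E).IsLE 0 := (DerivedCategory.isLE_Q_obj_iff _ _).mpr
    ((CochainComplex.isLE_iff _ _).mpr fun i hi => hz i (by omega))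
  obtain ⟨M, ⟨i₁⟩⟩ := (DRing.toD E).exists_iso_singleFunctor_obj_of_isGE_of_isLE 0
  exact ⟨i₁ ≪≫ (DerivedCategory.singleFunctor (ModuleCat.{u} R) 0).mapIso
    (((DerivedCategory.singleFunctorCompHomologyFunctorIso (ModuleCat.{u} R) 0).app M).symm ≪≫
      (DerivedCategory.homologyFunctor (ModuleCat.{u} R) 0).mapIso i₁.symm ≪≫ h0)⟩

end Groth.Agent.H02CA.KoszLift
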