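import Groth.Agent.H02CA.KoszLift.Basic
import Groth.Agent.H1CAlg.FibreFlat
import Groth.Agent.H02CA.KoszLift.Kosz
import Groth.Agent.H4DR.FlatBC.Dualizing
import Groth.Prelude.Def_CAlgX
import Mathlib.LinearAlgebra.TensorProduct.Quotient

/-!
# Lifting Koszul data from the closed fibre
-/

set_option autoImplicit false
set_option linter.style.haveILetI false

universe u

open CategoryTheory CategoryTheory.Limits IsLocalRing RingTheory.Sequence
open scoped Pointwise TensorProduct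

attribute [local instance] HasDerivedCategory.standard

namespace Groth.Agent.H02CA.KoszLift

section rho

variable {A : Type u} [CommRing A] (J : Ideal A)

/-- The map to the base change to `A ⧸ J`. -/
noncomputable def ρ (M : ModuleCat.{u} A) (x : M) : (H4DR.FlatBC.F A (A ⧸ J)).obj M :=
  H4DR.FlatBC.toFₗ (A ⧸ J) M ((1 : A ⧸ J) ⊗ₜ[A] x)

theorem ρ_sub (M : ModuleCat.{u} A) (x y : M) : ρ J M (x - y) = ρ J M x - ρ J M y := by
  rw [ρ, TensorProduct.tmul_sub, map_sub]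
  rfl

theorem ρ_add (M : ModuleCat.{u} A) (x y : M) : ρ J M (x + y) = ρ J M x + ρ J M y := by
  rw [ρ, TensorProduct.tmul_add, map_add]
  rfl

theorem ρ_smul (M : ModuleCat.{u} A) (a : A) (x : M) :
    ρ J M (a • x) = (Ideal.Quotient.mk J a) • ρ J M x := by
  rw [ρ, ρ, ← map_smul, TensorProduct.smul_tmul', ← TensorProduct.smul_tmul, smul_eq_mul, mul_one,
    ← Ideal.Quotient.mk_eq_mk, ← Algebra.algebraMap_eq_smul_one]
  rfl

theorem ρ_surjective (M : ModuleCat.{u} A) : Function.Surjective (ρ J M) := fun y => by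
  obtain ⟨t, rfl⟩ := (H4DR.FlatBC.toFₗ (A ⧸ J) M).surjective y
  obtain ⟨x, hx⟩ := Submodule.Quotient.mk_surjective _ (TensorProduct.quotTensorEquivQuotSMul M J t)
  refine ⟨x, congrArg _ ((TensorProduct.quotTensorEquivQuotSMul M J).injective ?_)⟩
  rw [TensorProduct.quotTensorEquivQuotSMul_mk_one_tmul, hx]

theorem ρ_eq_zero_iff (M : ModuleCat.{u} A) (x : M) : ρ J M x = 0 ↔ x ∈ J • (⊤ : Submodule A M) := by
  rw [ρ, LinearEquiv.map_eq_zero_iff, ← (TensorProduct.quotTensorEquivQuotSMul M J).map_eq_zero_iff,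
    TensorProduct.quotTensorEquivQuotSMul_mk_one_tmul, Submodule.Quotient.mk_eq_zero]

theorem ρ_natural {M N : ModuleCat.{u} A} (f : M ⟶ N) (x : M) :
    ((H4DR.FlatBC.F A (A ⧸ J)).map f).hom (ρ J M x) = ρ J N (f.hom x) := by
  rw [ρ, H4DR.FlatBC.F_map_toF, LinearMap.lTensor_tmul]
  rfl

end rho

variable {R A : Type u} [CommRing R] [CommRing A] [IsLocalRing R] [IsLocalRing A] [Algebra R A]
  [IsLocalHom (algebraMap R A)]

theorem essFiniteType_of_efp (h : CAlgX.IsEssFinitePresentation R A) : Algebra.EssFiniteType R A := by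
  obtain ⟨S₀, _, _, _, _, M, hfp, hloc⟩ := h
  haveI := hfp
  haveI := hloc
  haveI := Algebra.EssFiniteType.of_isLocalization A M
  exact Algebra.EssFiniteType.comp R S₀ A

variable [Algebra.EssFiniteType R A]

/-- The step of the ascending induction. -/
theorem asc_step {E₀ E₁ E₂ : Type u} [AddCommGroup E₀] [Module A E₀] [AddCommGroup E₁] [Module A E₁]
    [Module R E₁] [IsScalarTower R A E₁] [AddCommGroup E₂] [Module A E₂] [Module R E₂] [IsScalarTower R A E₂]
    [Module.Finite A E₁] [Module.Flat R E₂]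
    (d₀ : E₀ →ₗ[A] E₁) (d₁ : E₁ →ₗ[A] E₂) (hd : ∀ x, d₁ (d₀ x) = 0)
    (hex : ∀ x, d₁ x ∈ mA R A • (⊤ : Submodule A E₂) → ∃ w, x - d₀ w ∈ mA R A • (⊤ : Submodule A E₁)) :
    (∀ x, d₁ x = 0 → ∃ w, d₀ w = x) ∧ Module.Flat R (E₂ ⧸ LinearMap.range d₁) := by
  let u := (LinearMap.range d₀).liftQ d₁ (by rintro _ ⟨w, rfl⟩; exact hd w)
  obtain ⟨hinj, hflat⟩ := injective_and_flat (R := R) u fun y hy => by
    obtain ⟨x, rfl⟩ := Submodule.Quotient.mk_surjective _ y
    obtain ⟨w, hw⟩ := hex x hy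
    have h1 := Submodule.mem_map_of_mem (f := (LinearMap.range d₀).mkQ) hw
    rw [Submodule.map_smul'', map_sub, Submodule.mkQ_apply, Submodule.mkQ_apply,
      (Submodule.Quotient.mk_eq_zero (LinearMap.range d₀) (x := d₀ w)).2 ⟨w, rfl⟩, sub_zero] at h1
    exact Submodule.smul_mono le_rfl le_top h1
  refine ⟨fun x hx => ?_, ?_⟩
  · have h0 : u (Submodule.Quotient.mk x) = u 0 := by rw [map_zero]; exact hx
    exact (Submodule.Quotient.mk_eq_zero (LinearMap.range d₀)).1 (hinj h0)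
  · haveI := hflat
    exact Module.Flat.of_linearEquiv (M := E₂ ⧸ LinearMap.range u)
      ((Submodule.quotEquivOfEq (LinearMap.range d₁) (LinearMap.range u)
        (Submodule.range_liftQ _ _ _).symm).restrictScalars R)

/-- Koszul data lift from the closed fibre. -/
theorem exists_lift [Module.Flat R A] (fbar : List (A ⧸ mA R A))
    (hfbar : ∀ f ∈ fbar, f ∈ (maximalIdeal A).map (Ideal.Quotient.mk (mA R A)))
    (hreg : IsRegular (A ⧸ mA R A) fbar) (K : Dual.D A) (hK : DRing.IsPerfect A K)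
    [DRing.HasLBaseChange (Ideal.Quotient.mk (mA R A))]
    (hKf : Nonempty ((DRing.LBaseChange (Ideal.Quotient.mk (mA R A))).obj K ≅
      DerivedCategory.Q.obj (Koszul.koszul (A ⧸ mA R A) fbar))) :
    ∃ fs : List A, fs.map (Ideal.Quotient.mk (mA R A)) = fbar ∧ IsRegular A fs ∧
      Nonempty (K ≅ DerivedCategory.Q.obj (Koszul.koszul A fs)) ∧
      Module.Flat R (A ⧸ Ideal.span {a : A | a ∈ fs}) := by
  classical
  let 𝔪 := mA R A
  obtain ⟨eKA⟩ := hKf
  obtain ⟨eq⟩ := koszul_iso fbar hreg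
  obtain ⟨E, a, c, hE, hT, ⟨eE⟩⟩ := id hK
  haveI : ∀ j, Module.Finite A (E.X j) := fun j => (hT j).1
  haveI : ∀ j, Module.Projective A (E.X j) := fun j => (hT j).2
  haveI : ∀ j, Module.Flat A (E.X j) := fun j => inferInstance
  letI : ∀ j, Module R (E.X j) := fun j => Module.compHom _ (algebraMap R A)
  haveI : ∀ j, IsScalarTower R A (E.X j) := fun j => IsScalarTower.of_algebraMap_smul fun _ _ => rfl
  haveI : ∀ j, Module.Flat R (E.X j) := fun j => Module.Flat.trans R A (E.X j)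
  have hzero : ∀ j, (j < a ∨ c < j) → Subsingleton (E.X j) := fun j hj =>
    ModuleCat.subsingleton_of_isZero (hE j hj)
  -- the fibre
  let C := ((ModuleCat.extendScalars.{u, u, u} (Ideal.Quotient.mk 𝔪)).mapHomologicalComplex (ComplexShape.up ℤ)).obj E
  let eC : DRing.toD C ≅ Dual.inD (A ⧸ 𝔪) ((A ⧸ 𝔪) ⧸ Ideal.ofList fbar) :=
    (H4DR.TorAmp.lbaseObj (Ideal.Quotient.mk 𝔪) E
      (H4DR.TorAmp.isKFlat_of_flat (fun j hj => hE j (Or.inr hj)) (fun j => inferInstance))).symm ≪≫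
      (DRing.LBaseChange (Ideal.Quotient.mk 𝔪)).mapIso eE ≪≫ eKA ≪≫ eq
  have hCnat : ∀ (i j : ℤ) (x : E.X i), (C.d i j).hom (ρ 𝔪 (E.X i) x) = ρ 𝔪 (E.X j) ((E.d i j).hom x) :=
    fun i j x => ρ_natural 𝔪 (E.d i j) x
  have hdd : ∀ (i j k : ℤ) (x : E.X i), (E.d j k).hom ((E.d i j).hom x) = 0 := fun i j k x =>
    congr(($(E.d_comp_d i j k)).hom x)
  have hex : ∀ i j k : ℤ, i + 1 = j → j + 1 = k → j ≠ 0 → ∀ x : E.X j,
      (E.d j k).hom x ∈ 𝔪 • (⊤ : Submodule A (E.X k)) →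
        ∃ w, x - (E.d i j).hom w ∈ 𝔪 • (⊤ : Submodule A (E.X j)) := by
    intro i j k hij hjk hj x hx
    haveI := H4DR.PCoh.subsingleton_HD_inD (ModuleCat.of (A ⧸ 𝔪) ((A ⧸ 𝔪) ⧸ Ideal.ofList fbar)) j hj
    have hC : C.ExactAt j := (H4DR.TorAmp.subsingleton_HD_toD_iff C j).1
      (H4DR.PCoh.hEquiv j eC).injective.subsingleton
    rw [HomologicalComplex.exactAt_iff' _ i j k (by simp; omega) (by simp; omega),
      ShortComplex.moduleCat_exact_iff] at hC
    obtain ⟨y, hy⟩ := hC (ρ 𝔪 (E.X j) x) ((hCnat j k x).trans ((ρ_eq_zero_iff _ _ _).2 hx))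
    obtain ⟨w, rfl⟩ := ρ_surjective 𝔪 (E.X i) y
    refine ⟨w, (ρ_eq_zero_iff _ _ _).1 ?_⟩
    rw [ρ_sub, ← hCnat]
    exact sub_eq_zero.2 hy.symm
  -- negative degrees
  have hlow : ∀ n : ℕ, min a 0 - 1 + n ≤ 0 → ∀ i, i + 1 = min a 0 - 1 + n →
      Module.Flat R (E.X (min a 0 - 1 + n) ⧸ LinearMap.range (E.d i (min a 0 - 1 + n)).hom) := by
    intro n
    induction n with
    | zero =>
      intro _ i _
      haveI := hzero (min a 0 - 1 + ((0 : ℕ) : ℤ)) (Or.inl (by push_cast; omega))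
      infer_instance
    | succ n ih =>
      intro hn i hi
      obtain rfl : i = min a 0 - 1 + n := by push_cast at hi; omega
      haveI := ih (by push_cast at hn; omega) _ (sub_add_cancel _ 1)
      exact (asc_step (R := R) (E.d (min a 0 - 1 + (n : ℤ) - 1) _).hom _ (hdd _ _ _)
        (hex _ _ _ (sub_add_cancel _ _) (by push_cast; omega) (by push_cast at hn; omega))).2
  have hexact_neg : ∀ i j k : ℤ, i + 1 = j → j + 1 = k → j < 0 → ∀ x : E.X j, (E.d j k).hom x = 0 →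
      ∃ w, (E.d i j).hom w = x := by
    intro i j k hij hjk hj
    rcases lt_or_ge j (min a 0 - 1) with hja | hja
    · intro x _
      haveI := hzero j (Or.inl (by omega))
      exact ⟨0, Subsingleton.elim _ _⟩
    · obtain ⟨n, rfl⟩ : ∃ n : ℕ, j = min a 0 - 1 + n := ⟨(j - (min a 0 - 1)).toNat, by omega⟩
      haveI := hlow n (by omega) i hij
      exact (asc_step (R := R) (E.d i _).hom _ (hdd _ _ _) (hex i _ k hij hjk (by omega))).1
  -- positive degrees
  have hhigh : ∀ n : ℕ, 0 ≤ max c 0 + 1 - n → ∀ k, max c 0 + 1 - (n : ℤ) + 1 = k →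
      ∃ s : E.X k →ₗ[A] E.X (max c 0 + 1 - n), ∀ w, (E.d (max c 0 + 1 - (n : ℤ)) k).hom
        (s ((E.d (max c 0 + 1 - (n : ℤ)) k).hom w)) = (E.d (max c 0 + 1 - (n : ℤ)) k).hom w := by
    intro n
    induction n with
    | zero =>
      intro _ k hk
      haveI := hzero k (Or.inr (by push_cast at hk; omega))
      exact ⟨0, fun w => Subsingleton.elim _ _⟩
    | succ n ih =>
      intro hn k hk
      obtain rfl : k = max c 0 + 1 - n := by push_cast at hk; omega
      obtain ⟨s, hs⟩ := ih (by push_cast at hn; omega) _ rfl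
      exact (desc_step (R := R) (E.d (max c 0 + 1 - ((n + 1 : ℕ) : ℤ)) _).hom _ (hdd _ _ _) s hs
        (hex _ _ _ (by push_cast; omega) rfl (by push_cast at hn; omega))).2
  have hexact_pos : ∀ i j k : ℤ, i + 1 = j → j + 1 = k → 0 < j → ∀ x : E.X j, (E.d j k).hom x = 0 →
      ∃ w, (E.d i j).hom w = x := by
    intro i j k hij hjk hj
    rcases lt_or_ge (max c 0 + 1) j with hjc | hjc
    · intro x _
      haveI := hzero j (Or.inr (by omega))
      exact ⟨0, Subsingleton.elim _ _⟩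
    · obtain ⟨n, rfl⟩ : ∃ n : ℕ, j = max c 0 + 1 - n := ⟨(max c 0 + 1 - j).toNat, by omega⟩
      obtain ⟨s, hs⟩ := hhigh n (by omega) k hjk
      exact (desc_step (R := R) (E.d i _).hom _ (hdd _ _ _) s hs (hex i _ k hij hjk (by omega))).1
  obtain ⟨s₀, hs₀⟩ : ∃ s : E.X 1 →ₗ[A] E.X 0, ∀ w, (E.d 0 1).hom (s ((E.d 0 1).hom w)) = (E.d 0 1).hom w := by
    obtain ⟨n, hn⟩ : ∃ n : ℕ, (0 : ℤ) = max c 0 + 1 - n := ⟨(max c 0 + 1).toNat, by omega⟩
    have := hhigh n (by omega) 1 (by omega)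
    rw [← hn] at this
    exact this
  haveI hQ0 : Module.Flat R (E.X 0 ⧸ LinearMap.range (E.d (-1) 0).hom) := by
    obtain ⟨n, hn⟩ : ∃ n : ℕ, (0 : ℤ) = min a 0 - 1 + n := ⟨(1 - min a 0).toNat, by omega⟩
    have := hlow n (by omega) (-1) (by omega)
    rw [← hn] at this
    exact this
  -- the cohomology in degree zero
  let Sc := C.sc' (-1) 0 1
  let Z := LinearMap.ker (E.d 0 1).hom
  let r : E.X 0 →ₗ[A] Z := (LinearMap.id - s₀ ∘ₗ (E.d 0 1).hom).codRestrict Z fun x => by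
    show (E.d 0 1).hom (x - s₀ ((E.d 0 1).hom x)) = 0
    rw [map_sub, hs₀, sub_self]
  have hr : ∀ z : Z, r z = z := fun z => Subtype.ext (by
    show (z : E.X 0) - s₀ ((E.d 0 1).hom z) = z
    rw [show (E.d 0 1).hom (z : E.X 0) = 0 from z.2, map_zero, sub_zero])
  haveI : Module.Finite A Z := Module.Finite.of_surjective r fun z => ⟨z, hr z⟩
  haveI : Module.Projective A Z := Module.Projective.of_split Z.subtype r (LinearMap.ext hr)
  let d' : E.X (-1) →ₗ[A] Z := (E.d (-1) 0).hom.codRestrict Z fun w => hdd _ _ _ w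
  haveI : Module.FinitePresentation A Z := Module.finitePresentation_of_projective A Z
  haveI : Module.FinitePresentation A (Z ⧸ LinearMap.range d') :=
    Module.finitePresentation_of_surjective (LinearMap.range d').mkQ (Submodule.mkQ_surjective _)
      (by rw [Submodule.ker_mkQ, LinearMap.range_eq_map]; exact Module.Finite.fg_top.map _)
  let e : (LinearMap.ker Sc.g.hom ⧸ LinearMap.range Sc.moduleCatToCycles) ≃ₗ[A ⧸ 𝔪]
      ((A ⧸ 𝔪) ⧸ Ideal.ofList fbar) :=
    ((DerivedCategory.homologyFunctorFactors (ModuleCat.{u} (A ⧸ 𝔪)) 0).app C ≪≫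
      C.homologyIsoSc' (-1) 0 1 (by simp) (by simp) ≪≫ Sc.moduleCatHomologyIso).toLinearEquiv.symm.trans
      ((H4DR.PCoh.hEquiv 0 eC).trans (H4DR.DComplete.e0 (ModuleCat.of (A ⧸ 𝔪) ((A ⧸ 𝔪) ⧸ Ideal.ofList fbar))))
  have hcyc : ∀ z : Z, ρ 𝔪 (E.X 0) (z : E.X 0) ∈ LinearMap.ker Sc.g.hom := fun z => by
    show (C.d 0 1).hom _ = 0
    rw [hCnat, show (E.d 0 1).hom (z : E.X 0) = 0 from z.2]
    exact (ρ_eq_zero_iff _ _ _).2 (zero_mem _)
  let π₀ : Z →ₗ[A] ((A ⧸ 𝔪) ⧸ Ideal.ofList fbar) :=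
    { toFun := fun z => e (Submodule.Quotient.mk ⟨ρ 𝔪 (E.X 0) (z : E.X 0), hcyc z⟩)
      map_add' := fun z z' => by
        rw [← map_add e, ← Submodule.Quotient.mk_add]
        exact congrArg (fun t => e (Submodule.Quotient.mk t)) (Subtype.ext (ρ_add 𝔪 _ _ _))
      map_smul' := fun b z => by
        rw [RingHom.id_apply, ← algebraMap_smul (A ⧸ 𝔪) b (e _), ← map_smul e, ← Submodule.Quotient.mk_smul]
        exact congrArg (fun t => e (Submodule.Quotient.mk t)) (Subtype.ext (ρ_smul 𝔪 _ _ _)) }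
  have hπ₀d : ∀ w, π₀ (d' w) = 0 := fun w => by
    refine (congrArg e ((Submodule.Quotient.mk_eq_zero _).2 ?_)).trans (map_zero e)
    exact ⟨ρ 𝔪 (E.X (-1)) w, Subtype.ext (hCnat (-1) 0 w)⟩
  let H := Z ⧸ LinearMap.range d'
  let π : H →ₗ[A] ((A ⧸ 𝔪) ⧸ Ideal.ofList fbar) :=
    (LinearMap.range d').liftQ π₀ (by rintro _ ⟨w, rfl⟩; exact hπ₀d w)
  have hπker : ∀ h, π h = 0 → h ∈ 𝔪 • (⊤ : Submodule A H) := by
    intro h hh
    obtain ⟨z, rfl⟩ := Submodule.Quotient.mk_surjective _ h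
    have h0 : e (Submodule.Quotient.mk ⟨ρ 𝔪 (E.X 0) (z : E.X 0), hcyc z⟩) = 0 := hh
    rw [LinearEquiv.map_eq_zero_iff, Submodule.Quotient.mk_eq_zero] at h0
    obtain ⟨y, hy⟩ := h0
    obtain ⟨w, rfl⟩ := ρ_surjective 𝔪 (E.X (-1)) y
    have h1 : (z : E.X 0) - (E.d (-1) 0).hom w ∈ 𝔪 • (⊤ : Submodule A (E.X 0)) := by
      refine (ρ_eq_zero_iff _ _ _).1 ?_
      rw [ρ_sub, ← hCnat]
      exact sub_eq_zero.2 (congrArg Subtype.val hy).symm
    have h2 := Submodule.mem_map_of_mem (f := (LinearMap.range d').mkQ ∘ₗ r) h1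
    rw [Submodule.map_smul'', map_sub, LinearMap.comp_apply, LinearMap.comp_apply, hr z,
      show r ((E.d (-1) 0).hom w) = d' w from hr (d' w), Submodule.mkQ_apply, Submodule.mkQ_apply,
      (Submodule.Quotient.mk_eq_zero (LinearMap.range d') (x := d' w)).2 ⟨w, rfl⟩, sub_zero] at h2
    exact Submodule.smul_mono le_rfl le_top h2
  have hπsurj : Function.Surjective π := fun y => by
    obtain ⟨y, rfl⟩ := e.surjective y
    obtain ⟨⟨y, hy⟩, rfl⟩ := Submodule.Quotient.mk_surjective _ y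
    obtain ⟨x, rfl⟩ := ρ_surjective 𝔪 (E.X 0) y
    have hx : (E.d 0 1).hom x ∈ 𝔪 • (⊤ : Submodule A (E.X 1)) :=
      (ρ_eq_zero_iff _ _ _).1 ((hCnat 0 1 x).symm.trans hy)
    refine ⟨Submodule.Quotient.mk (r x), congrArg (fun t => e (Submodule.Quotient.mk t)) (Subtype.ext ?_)⟩
    show ρ 𝔪 (E.X 0) (x - s₀ ((E.d 0 1).hom x)) = ρ 𝔪 (E.X 0) x
    rw [ρ_sub, sub_eq_self]
    refine (ρ_eq_zero_iff _ _ _).2 ?_
    have := Submodule.mem_map_of_mem (f := s₀) hx
    rw [Submodule.map_smul''] at this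
    exact Submodule.smul_mono le_rfl le_top this
  letI : Module R H := Module.compHom _ (algebraMap R A)
  haveI : IsScalarTower R A H := IsScalarTower.of_algebraMap_smul fun _ _ => rfl
  haveI hHflat : Module.Flat R H := by
    let ι : H →ₗ[A] (E.X 0 ⧸ LinearMap.range (E.d (-1) 0).hom) :=
      (LinearMap.range d').mapQ _ Z.subtype (by rintro _ ⟨w, rfl⟩; exact ⟨w, rfl⟩)
    let p : (E.X 0 ⧸ LinearMap.range (E.d (-1) 0).hom) →ₗ[A] H :=
      (LinearMap.range (E.d (-1) 0).hom).mapQ _ r (by rintro _ ⟨w, rfl⟩; exact ⟨w, (hr (d' w)).symm⟩)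
    refine Module.Flat.of_retract (ι.restrictScalars R) (p.restrictScalars R) (LinearMap.ext fun h => ?_)
    obtain ⟨z, rfl⟩ := Submodule.Quotient.mk_surjective _ h
    exact congrArg Submodule.Quotient.mk (hr z)
  obtain ⟨h₁, hh₁⟩ := hπsurj (Submodule.Quotient.mk 1)
  let q : A →ₗ[A] H := LinearMap.toSpanSingleton A H h₁
  have hπq : ∀ b, π (q b) = Submodule.Quotient.mk (Ideal.Quotient.mk 𝔪 b) := fun b => by
    show π (b • h₁) = _
    rw [map_smul, hh₁, ← Submodule.Quotient.mk_smul]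
    exact congrArg _ (Algebra.smul_def b (1 : A ⧸ 𝔪) |>.trans (mul_one _))
  have hqsurj : Function.Surjective q := by
    rw [← LinearMap.range_eq_top]
    refine top_unique (Submodule.le_of_le_smul_of_le_jacobson_bot (Module.Finite.fg_top)
      (le_trans (mA_le (R := R)) (IsLocalRing.maximalIdeal_le_jacobson ⊥)) fun h _ => ?_)
    obtain ⟨y, hy⟩ := Submodule.Quotient.mk_surjective _ (π h)
    obtain ⟨b, rfl⟩ := Ideal.Quotient.mk_surjective y
    refine Submodule.mem_sup.2 ⟨q b, ⟨b, rfl⟩, h - q b, hπker _ ?_, add_sub_cancel _ _⟩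
    rw [map_sub, hπq, hy, sub_self]
  let I : Ideal A := LinearMap.ker q
  have hIfg : Submodule.FG I := Module.FinitePresentation.fg_ker q hqsurj
  have hImk : ∀ b ∈ I, Ideal.Quotient.mk 𝔪 b ∈ Ideal.ofList fbar := fun b hb => by
    have := hπq b
    rw [show q b = 0 from hb, map_zero] at this
    exact (Submodule.Quotient.mk_eq_zero _).1 this.symm
  have hlift : ∀ y : A ⧸ 𝔪, ∃ b : A, Ideal.Quotient.mk 𝔪 b = y ∧ (y ∈ Ideal.ofList fbar → b ∈ I) := by
    intro y
    obtain ⟨b, rfl⟩ := Ideal.Quotient.mk_surjective y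
    by_cases hy : Ideal.Quotient.mk 𝔪 b ∈ Ideal.ofList fbar
    · have h1 := hπker (q b) (by rw [hπq]; exact (Submodule.Quotient.mk_eq_zero _).2 hy)
      have htop : (⊤ : Submodule A H) = Submodule.map q ⊤ := by
        rw [Submodule.map_top, LinearMap.range_eq_top.2 hqsurj]
      rw [htop, ← Submodule.map_smul''] at h1
      obtain ⟨μ, hμ, hμb⟩ := h1
      refine ⟨b - μ, ?_, fun _ => ?_⟩
      · rw [map_sub, Ideal.Quotient.eq_zero_iff_mem.2 (show μ ∈ 𝔪 by simpa using hμ), sub_zero]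
      · show q (b - μ) = 0
        rw [map_sub, hμb, sub_self]
    · exact ⟨b, rfl, fun h => absurd h hy⟩
  choose g hg hgI using hlift
  let fs : List A := fbar.map g
  have hfsmk : fs.map (Ideal.Quotient.mk 𝔪) = fbar := by
    rw [List.map_map]
    exact (List.map_congr_left fun y _ => hg y).trans (List.map_id _)
  have hwreg : IsWeaklyRegular (A ⧸ 𝔪 • (⊤ : Submodule A A)) fs := by
    have h1 := hreg.toIsWeaklyRegular
    rw [← hfsmk] at h1
    exact ((Submodule.quotEquivOfEq _ 𝔪 (by rw [smul_eq_mul, Ideal.mul_top])).isWeaklyRegular_congr fs).2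
      ((isWeaklyRegular_map_algebraMap_iff (R := A) (S := A ⧸ 𝔪) (M := A ⧸ 𝔪) fs).1 h1)
  obtain ⟨hfsreg, hfsflat⟩ := slice (R := R) fs A hwreg
  have hIeq : I = Ideal.ofList fs := by
    refine le_antisymm (Submodule.le_of_le_smul_of_le_jacobson_bot hIfg
      (le_trans (mA_le (R := R)) (IsLocalRing.maximalIdeal_le_jacobson ⊥)) fun x hx => ?_) (Ideal.span_le.2 ?_)
    · have h1 := hImk x hx
      rw [← hfsmk, ← Ideal.map_ofList, Ideal.mem_map_iff_of_surjective _ Ideal.Quotient.mk_surjective] at h1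
      obtain ⟨y, hy, hyx⟩ := h1
      have hfsI : Ideal.ofList fs ≤ I := Ideal.span_le.2 fun b hb => by
        obtain ⟨y, hy, rfl⟩ := List.mem_map.1 hb
        exact hgI y (Ideal.subset_span hy)
      have hμ : x - y ∈ 𝔪 := (Ideal.Quotient.eq).1 hyx.symm
      have h2 : x - y ∈ maximalIdeal R • (⊤ : Submodule R A) :=
        (mem_smul_top_iff A _).1 (by rw [smul_eq_mul, Ideal.mul_top]; exact hμ)
      have h3 : x - y ∈ maximalIdeal R • LinearMap.ker (q.restrictScalars R) :=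
        H1CAlg.FibreFlat.mem_smul_ker (q.restrictScalars R) hqsurj _ h2
          (show q (x - y) = 0 from sub_mem hx (hfsI hy))
      refine Submodule.mem_sup.2 ⟨y, hy, x - y, ?_, add_sub_cancel _ _⟩
      rw [LinearMap.ker_restrictScalars, ← Ideal.smul_restrictScalars, Submodule.restrictScalars_mem] at h3
      exact h3
    · intro b hb
      obtain ⟨y, hy, rfl⟩ := List.mem_map.1 hb
      exact hgI y (Ideal.subset_span hy)
  have hfsle : Ideal.ofList fs ≤ maximalIdeal A := by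
    refine Ideal.span_le.2 fun b hb => ?_
    obtain ⟨y, hy, rfl⟩ := List.mem_map.1 hb
    obtain ⟨n, hn, hny⟩ := (Ideal.mem_map_iff_of_surjective _ Ideal.Quotient.mk_surjective).1 (hfbar y hy)
    have hsub : g y - n ∈ 𝔪 := (Ideal.Quotient.eq).1 ((hg y).trans hny.symm)
    have := add_mem (mA_le (R := R) hsub) hn
    rwa [sub_add_cancel] at this
  have hfsR : IsRegular A fs := ⟨hfsreg, fun h => by
    rw [smul_eq_mul, Ideal.mul_top] at h
    exact (maximalIdeal.isMaximal A).ne_top (top_unique (h.le.trans hfsle))⟩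
  refine ⟨fs, hfsmk, hfsR, ?_, ?_⟩
  · have hz : ∀ j, j ≠ 0 → Subsingleton (Dual.HD A K j) := fun j hj => by
      haveI : Subsingleton (Dual.HD A (DRing.toD E) j) := by
        rw [H4DR.TorAmp.subsingleton_HD_toD_iff,
          HomologicalComplex.exactAt_iff' _ (j - 1) j (j + 1) (by simp) (by simp), ShortComplex.moduleCat_exact_iff]
        intro x hx
        rcases lt_or_gt_of_ne hj with h | h
        · exact hexact_neg _ _ _ (sub_add_cancel _ _) rfl h x hx
        · exact hexact_pos _ _ _ (sub_add_cancel _ _) rfl h x hx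
      exact (H4DR.PCoh.hEquiv j eE).symm.injective.subsingleton
    haveI : K.IsGE 0 := (DerivedCategory.isGE_iff _ _).2 fun i hi =>
      haveI := hz i hi.ne
      ModuleCat.isZero_of_subsingleton _
    haveI : K.IsLE 0 := (DerivedCategory.isLE_iff _ _).2 fun i hi =>
      haveI := hz i hi.ne'
      ModuleCat.isZero_of_subsingleton _
    obtain ⟨M, ⟨i₁⟩⟩ := K.exists_iso_singleFunctor_obj_of_isGE_of_isLE 0
    let h0 : Dual.HD A (DRing.toD E) 0 ≃ₗ[A] H :=
      ((DerivedCategory.homologyFunctorFactors (ModuleCat.{u} A) 0).app E ≪≫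
        E.homologyIsoSc' (-1) 0 1 (by simp) (by simp) ≪≫ (E.sc' (-1) 0 1).moduleCatHomologyIso).toLinearEquiv
    let lM : M ≃ₗ[A] A ⧸ Ideal.ofList fs :=
      (H4DR.DComplete.e0 M).symm.trans ((H4DR.PCoh.hEquiv 0 (eE ≪≫ i₁).symm).trans (h0.trans
        ((q.quotKerEquivOfSurjective hqsurj).symm.trans (Submodule.quotEquivOfEq _ _ hIeq))))
    obtain ⟨eqA⟩ := koszul_iso fs hfsR
    exact ⟨i₁ ≪≫ (DerivedCategory.singleFunctor (ModuleCat.{u} A) 0).mapIso lM.toModuleIso ≪≫ eqA.symm⟩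
  · haveI := hfsflat
    exact Module.Flat.of_linearEquiv ((Submodule.quotEquivOfEq _ _
      (show Ideal.ofList fs • (⊤ : Submodule A A) = Ideal.span {a : A | a ∈ fs} by
        rw [smul_eq_mul, Ideal.mul_top])).restrictScalars R).symm

end Groth.Agent.H02CA.KoszLift
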